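import Mathlib

universe u

namespace Groth.Agent.H5PowTors

open TensorProduct

variable {R S : Type u} [CommRing R] [CommRing S] [Algebra R S] (I : Ideal R)

/-- elements of `IS` kill `S ⊗ M` on the left factor if `I` kills `M`. -/
theorem tmul_eq_zero_of_mem_map {M : Type*} [AddCommGroup M] [Module R M]
    (hM : ∀ a ∈ I, ∀ x : M, a • x = 0) (t : S) (ht : t ∈ I.map (algebraMap R S)) (m : M) :
    t ⊗ₜ[R] m = 0 := by
  refine Submodule.span_induction ?_ ?_ ?_ ?_ ht
  · rintro _ ⟨a, ha, rfl⟩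
    rw [Algebra.algebraMap_eq_smul_one, TensorProduct.smul_tmul, hM a ha, tmul_zero]
  · exact zero_tmul _ _
  · intro x y _ _ hx hy
    rw [add_tmul, hx, hy, add_zero]
  · intro c x _ hx
    rw [smul_eq_mul, ← smul_eq_mul, ← TensorProduct.smul_tmul', hx, smul_zero]

theorem tmul_one_surjective_of_killed
    (hq : Function.Surjective (algebraMap (R ⧸ I) (S ⧸ I.map (algebraMap R S))))
    {M : Type*} [AddCommGroup M] [Module R M] (hM : ∀ a ∈ I, ∀ x : M, a • x = 0) :
    Function.Surjective (fun m : M => (1 : S) ⊗ₜ[R] m) := by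
  intro z
  induction z using TensorProduct.induction_on with
  | zero => exact ⟨0, tmul_zero _ _⟩
  | tmul s m =>
    obtain ⟨rb, hrb⟩ := hq (Ideal.Quotient.mk _ s)
    obtain ⟨r, rfl⟩ := Ideal.Quotient.mk_surjective rb
    have h1 : Ideal.Quotient.mk (I.map (algebraMap R S)) (algebraMap R S r) =
        Ideal.Quotient.mk _ s := hrb
    rw [Ideal.Quotient.eq] at h1
    have h2 := tmul_eq_zero_of_mem_map I hM _ h1 m
    rw [sub_tmul, sub_eq_zero] at h2
    refine ⟨r • m, ?_⟩
    show (1 : S) ⊗ₜ[R] (r • m) = s ⊗ₜ[R] m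
    rw [← h2, Algebra.algebraMap_eq_smul_one, TensorProduct.smul_tmul]
  | add x y hx hy =>
    obtain ⟨a, ha⟩ := hx
    obtain ⟨b, hb⟩ := hy
    exact ⟨a + b, by show (1 : S) ⊗ₜ[R] (a + b) = x + y; rw [tmul_add]; exact congrArg₂ _ ha hb⟩

theorem tmul_one_injective_of_killed
    (hq : Function.Bijective (algebraMap (R ⧸ I) (S ⧸ I.map (algebraMap R S))))
    {M : Type*} [AddCommGroup M] [Module R M] (hM : ∀ a ∈ I, ∀ x : M, a • x = 0) :
    Function.Injective (fun m : M => (1 : S) ⊗ₜ[R] m) := by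
  have hM' : Module.IsTorsionBySet R M (I : Set R) := by
    intro x a
    exact hM a.1 a.2 x
  letI : Module (R ⧸ I) M := Module.IsTorsionBySet.module hM'
  have hmk : ∀ (r : R) (m : M), (Ideal.Quotient.mk I r) • m = r • m := fun r m =>
    Module.IsTorsionBySet.mk_smul hM' r m
  let e : (R ⧸ I) ≃+* (S ⧸ I.map (algebraMap R S)) := RingEquiv.ofBijective _ hq
  let ρ : S → R ⧸ I := fun s => e.symm (Ideal.Quotient.mk _ s)
  have hρadd : ∀ s t, ρ (s + t) = ρ s + ρ t := fun s t => by simp [ρ]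
  have hρsmul : ∀ (r : R) s, ρ (r • s) = Ideal.Quotient.mk I r * ρ s := fun r s => by
    simp only [ρ]
    rw [Algebra.smul_def, map_mul, map_mul]
    congr 1
    rw [RingEquiv.symm_apply_eq]
    rfl
  have hρone : ρ 1 = 1 := by simp [ρ]
  let B : S →ₗ[R] M →ₗ[R] M := LinearMap.mk₂ R (fun s m => ρ s • m)
    (fun s t m => by rw [hρadd, add_smul])
    (fun r s m => by rw [hρsmul, mul_smul, hmk])
    (fun s m n => smul_add _ _ _)
    (fun r s m => by
      obtain ⟨c, hc⟩ := Ideal.Quotient.mk_surjective (ρ s)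
      rw [← hc, hmk, hmk, smul_comm])
  let lam : S ⊗[R] M →ₗ[R] M := TensorProduct.lift B
  intro m m' h
  have := congrArg lam h
  simpa [lam, B, hρone] using this

end Groth.Agent.H5PowTors
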