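import Mathlib
import Groth.Agent.Lib.Helper5.PowTors.A

universe u v

namespace Groth.Agent.H5PowTors

open TensorProduct

variable {R S : Type u} [CommRing R] [CommRing S] [Algebra R S] (I : Ideal R)

/-- the map `m ↦ 1 ⊗ m` as a linear map. -/
noncomputable def iota (R S : Type u) [CommRing R] [CommRing S] [Algebra R S]
    (M : Type v) [AddCommGroup M] [Module R M] : M →ₗ[R] S ⊗[R] M :=
  (TensorProduct.mk R S M 1)

@[simp] theorem iota_apply (M : Type v) [AddCommGroup M] [Module R M] (m : M) :
    iota R S M m = (1 : S) ⊗ₜ[R] m := rfl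

theorem iota_naturality {M N : Type v} [AddCommGroup M] [Module R M] [AddCommGroup N] [Module R N]
    (f : M →ₗ[R] N) (m : M) : (LinearMap.lTensor S f) (iota R S M m) = iota R S N (f m) := by
  simp

/-- five lemma for `iota`. -/
theorem iota_bijective_of_exact [Module.Flat R S]
    {M' M M'' : Type v} [AddCommGroup M'] [Module R M'] [AddCommGroup M] [Module R M]
    [AddCommGroup M''] [Module R M''] (f : M' →ₗ[R] M) (g : M →ₗ[R] M'')
    (hf : Function.Injective f) (hfg : Function.Exact f g) (hg : Function.Surjective g)
    (h1 : Function.Bijective (iota R S M')) (h2 : Function.Bijective (iota R S M'')) :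
    Function.Bijective (iota R S M) := by
  have hfS : Function.Injective (LinearMap.lTensor S f) :=
    Module.Flat.lTensor_preserves_injective_linearMap f hf
  have hexS : Function.Exact (LinearMap.lTensor S f) (LinearMap.lTensor S g) :=
    lTensor_exact S hfg hg
  constructor
  · rw [injective_iff_map_eq_zero]
    intro m hm
    have h3 : iota R S M'' (g m) = 0 := by
      rw [← iota_naturality, hm, map_zero]
    have h4 : g m = 0 := (injective_iff_map_eq_zero _).1 h2.1 _ h3
    obtain ⟨m', rfl⟩ := (hfg m).1 h4
    have h5 : LinearMap.lTensor S f (iota R S M' m') = 0 := by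
      rw [iota_naturality]; exact hm
    have h6 := (injective_iff_map_eq_zero _).1 hfS _ h5
    have h7 := (injective_iff_map_eq_zero _).1 h1.1 _ h6
    rw [h7, map_zero]
  · intro z
    obtain ⟨m'', hm''⟩ := h2.2 (LinearMap.lTensor S g z)
    obtain ⟨m, rfl⟩ := hg m''
    have h3 : LinearMap.lTensor S g (z - iota R S M m) = 0 := by
      rw [map_sub, iota_naturality, hm'', sub_self]
    obtain ⟨w, hw⟩ := (hexS _).1 h3
    obtain ⟨m', rfl⟩ := h1.2 w
    refine ⟨m + f m', ?_⟩
    rw [map_add, ← iota_naturality, hw]
    abel

theorem iota_bijective_of_killed_pow [Module.Flat R S]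
    (hq : Function.Bijective (algebraMap (R ⧸ I) (S ⧸ I.map (algebraMap R S)))) (n : ℕ) :
    ∀ (M : Type v) [AddCommGroup M] [Module R M], (∀ a ∈ I ^ n, ∀ x : M, a • x = 0) →
      Function.Bijective (iota R S M) := by
  induction n with
  | zero =>
    intro M _ _ hM
    have hM0 : ∀ x : M, x = 0 := fun x => by
      have := hM 1 (by simp) x
      simpa using this
    haveI : Subsingleton M := ⟨fun a b => (hM0 a).trans (hM0 b).symm⟩
    haveI : Subsingleton (S ⊗[R] M) := inferInstance
    exact ⟨fun a b _ => Subsingleton.elim a b, fun z => ⟨0, Subsingleton.elim _ _⟩⟩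
  | succ n ih =>
    intro M _ _ hM
    let M' : Submodule R M := I • (⊤ : Submodule R M)
    have hM' : ∀ a ∈ I ^ n, ∀ x : M', a • x = 0 := by
      intro a ha x
      apply Subtype.ext
      show a • (x : M) = 0
      have hx := x.2
      refine Submodule.smul_induction_on hx ?_ ?_
      · intro r hr y _
        rw [smul_smul]
        exact hM _ (by rw [pow_succ]; exact Ideal.mul_mem_mul ha hr) y
      · intro y z hy hz
        rw [smul_add, hy, hz, add_zero]
    have hM'' : ∀ a ∈ I, ∀ x : M ⧸ M', a • x = 0 := by
      intro a ha x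
      obtain ⟨y, rfl⟩ := Submodule.Quotient.mk_surjective _ x
      rw [← Submodule.Quotient.mk_smul, Submodule.Quotient.mk_eq_zero]
      exact Submodule.smul_mem_smul ha trivial
    have h1 := ih M' hM'
    have h2 : Function.Bijective (iota R S (M ⧸ M')) :=
      ⟨tmul_one_injective_of_killed I hq hM'', tmul_one_surjective_of_killed I hq.2 hM''⟩
    exact iota_bijective_of_exact M'.subtype M'.mkQ M'.injective_subtype
      (LinearMap.exact_subtype_mkQ M') (Submodule.mkQ_surjective M') h1 h2

end Groth.Agent.H5PowTors
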