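import Mathlib
import Groth.Agent.Lib.Helper5.PowTors.A
import Groth.Agent.Lib.Helper5.PowTors.B

universe u v

namespace Groth.Agent.H5PowTors

open TensorProduct

variable {R S : Type u} [CommRing R] [CommRing S] [Algebra R S] (I : Ideal R)

/-- the `I^n`-torsion submodule. -/
def torsionSub (n : ℕ) (N : Type v) [AddCommGroup N] [Module R N] : Submodule R N where
  carrier := {x | ∀ a ∈ I ^ n, a • x = 0}
  add_mem' := fun hx hy a ha => by rw [smul_add, hx a ha, hy a ha, add_zero]
  zero_mem' := fun a _ => smul_zero a
  smul_mem' := fun c x hx a ha => by rw [smul_comm, hx a ha, smul_zero]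

theorem mem_torsionSub {n : ℕ} {N : Type v} [AddCommGroup N] [Module R N] {x : N} :
    x ∈ torsionSub I n N ↔ ∀ a ∈ I ^ n, a • x = 0 := Iff.rfl

theorem torsionSub_killed (n : ℕ) (N : Type v) [AddCommGroup N] [Module R N] :
    ∀ a ∈ I ^ n, ∀ x : torsionSub I n N, a • x = 0 := by
  intro a ha x
  apply Subtype.ext
  exact x.2 a ha

theorem torsionSub_mono {n m : ℕ} (h : n ≤ m) (N : Type v) [AddCommGroup N] [Module R N] :
    torsionSub I n N ≤ torsionSub I m N := by
  intro x hx a ha
  exact hx a (Ideal.pow_le_pow_right h ha)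

variable [Module.Flat R S]
  (hq : Function.Bijective (algebraMap (R ⧸ I) (S ⧸ I.map (algebraMap R S))))

include hq in
/-- (a): `iota` is injective on torsion elements. -/
theorem eq_zero_of_iota_eq_zero {N : Type v} [AddCommGroup N] [Module R N] (n : ℕ) (y : N)
    (hy : y ∈ torsionSub I n N) (h0 : iota R S N y = 0) : y = 0 := by
  have hinj : Function.Injective (LinearMap.lTensor S (torsionSub I n N).subtype) :=
    Module.Flat.lTensor_preserves_injective_linearMap _ (Submodule.injective_subtype _)
  have h1 : LinearMap.lTensor S (torsionSub I n N).subtype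
      (iota R S (torsionSub I n N) ⟨y, hy⟩) = 0 := by
    rw [iota_naturality]; exact h0
  have h2 := (injective_iff_map_eq_zero _).1 hinj _ h1
  have h3 := (injective_iff_map_eq_zero _).1
    (iota_bijective_of_killed_pow I hq n _ (torsionSub_killed I n N)).1 _ h2
  exact congrArg Subtype.val h3

include hq in
/-- `iota` is bijective for power torsion modules. -/
theorem iota_bijective_of_powerTorsion {M : Type v} [AddCommGroup M] [Module R M]
    (hM : ∀ x : M, ∃ n : ℕ, ∀ a ∈ I ^ n, a • x = 0) : Function.Bijective (iota R S M) := by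
  constructor
  · rw [injective_iff_map_eq_zero]
    intro m hm
    obtain ⟨n, hn⟩ := hM m
    exact eq_zero_of_iota_eq_zero I hq n m hn hm
  · intro z
    induction z using TensorProduct.induction_on with
    | zero => exact ⟨0, map_zero _⟩
    | tmul s m =>
      obtain ⟨n, hn⟩ := hM m
      obtain ⟨y, hy⟩ := (iota_bijective_of_killed_pow I hq n _ (torsionSub_killed I n M)).2
        (s ⊗ₜ[R] (⟨m, hn⟩ : torsionSub I n M))
      refine ⟨y.1, ?_⟩
      have := congrArg (LinearMap.lTensor S (torsionSub I n M).subtype) hy
      rw [iota_naturality] at this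
      simpa using this
    | add x y hx hy =>
      obtain ⟨a, ha⟩ := hx
      obtain ⟨b, hb⟩ := hy
      exact ⟨a + b, by rw [map_add, ha, hb]⟩

include hq in
/-- (b): torsion elements of `S ⊗ N` come from torsion elements of `N`. -/
theorem exists_of_torsion (hI : I.FG) {N : Type v} [AddCommGroup N] [Module R N] (n : ℕ)
    (z : S ⊗[R] N) (hz : ∀ a ∈ I ^ n, a • z = 0) :
    ∃ y ∈ torsionSub I n N, iota R S N y = z := by
  classical
  obtain ⟨T, hT⟩ := hI.pow (n := n)
  let g : N →ₗ[R] (T → N) := LinearMap.pi (fun j => (j : R) • LinearMap.id)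
  have hex : Function.Exact (torsionSub I n N).subtype g := by
    intro x
    constructor
    · intro hx
      refine ⟨⟨x, ?_⟩, rfl⟩
      intro a ha
      rw [← hT] at ha
      refine Submodule.span_induction ?_ ?_ ?_ ?_ ha
      · intro b hb
        have := congrFun hx ⟨b, hb⟩
        simpa [g] using this
      · exact zero_smul _ _
      · intro b c _ _ hb hc
        rw [add_smul, hb, hc, add_zero]
      · intro c b _ hb
        rw [smul_eq_mul, mul_smul, hb, smul_zero]
    · rintro ⟨y, rfl⟩
      funext j
      have : (j : R) ∈ I ^ n := hT ▸ Ideal.subset_span j.2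
      simpa [g] using y.2 _ this
  have hexS := Module.Flat.lTensor_exact S hex
  have hcomp : (TensorProduct.piRight R S S (fun _ : T => N)).toLinearMap.restrictScalars R ∘ₗ
      (LinearMap.lTensor S g) =
      LinearMap.pi (fun j : T => ((j : R) • LinearMap.id : S ⊗[R] N →ₗ[R] S ⊗[R] N)) := by
    apply TensorProduct.ext'
    intro s x
    funext j
    simp [g, TensorProduct.piRight_apply, TensorProduct.tmul_smul]
  have hgz : LinearMap.lTensor S g z = 0 := by
    apply (TensorProduct.piRight R S S (fun _ : T => N)).injective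
    have := congrArg (fun h => h z) hcomp
    simp only [LinearMap.comp_apply] at this
    rw [map_zero]
    refine this.trans ?_
    funext j
    have hj : (j : R) ∈ I ^ n := hT ▸ Ideal.subset_span j.2
    simpa using hz _ hj
  obtain ⟨w, hw⟩ := (hexS z).1 hgz
  obtain ⟨y, hy⟩ := (iota_bijective_of_killed_pow I hq n _ (torsionSub_killed I n N)).2 w
  refine ⟨y.1, y.2, ?_⟩
  rw [← hw, ← hy, iota_naturality]
  rfl

end Groth.Agent.H5PowTors
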