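import Mathlib
import Groth.Agent.Lib.Helper5.PowTors.C

universe u

namespace Groth.Agent.H5PowTors

open TensorProduct

variable {R S M N : Type u} [CommRing R] [CommRing S] [Algebra R S] [Module.Flat R S]
  [AddCommGroup M] [Module R M] [AddCommGroup N] [Module R N]

theorem baseChange_eq_lift (f : M →ₗ[R] N) :
    LinearMap.baseChange S f = LinearMap.liftBaseChangeEquiv S ((iota R S N) ∘ₗ f) := by
  apply TensorProduct.AlgebraTensorModule.ext
  intro s m
  show s ⊗ₜ[R] f m = ((iota R S N) ∘ₗ f).liftBaseChange S (s ⊗ₜ[R] m)
  rw [LinearMap.liftBaseChange_tmul, LinearMap.comp_apply, iota_apply, TensorProduct.smul_tmul',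
    smul_eq_mul, mul_one]

theorem main (I : Ideal R) (hI : I.FG)
    (hq : Function.Bijective (algebraMap (R ⧸ I) (S ⧸ I.map (algebraMap R S))))
    (hMN : (∀ x : M, ∃ n : ℕ, ∀ a ∈ I ^ n, a • x = 0) ∨ (∀ y : N, ∃ n : ℕ, ∀ a ∈ I ^ n, a • y = 0)) :
    Function.Bijective (fun f : M →ₗ[R] N => LinearMap.baseChange S f) := by
  -- reduce to post-composition with iota
  suffices h : Function.Bijective (fun f : M →ₗ[R] N => (iota R S N) ∘ₗ f) by
    have : (fun f : M →ₗ[R] N => LinearMap.baseChange S f) =
        (LinearMap.liftBaseChangeEquiv S) ∘ (fun f : M →ₗ[R] N => (iota R S N) ∘ₗ f) := by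
      funext f
      exact baseChange_eq_lift f
    rw [this]
    exact (LinearMap.liftBaseChangeEquiv S).bijective.comp h
  rcases hMN with hM | hN
  · constructor
    · intro f f' hff
      ext m
      obtain ⟨n, hn⟩ := hM m
      have h1 : iota R S N (f m - f' m) = 0 := by
        have := congrArg (fun h => h m) hff
        simp only [LinearMap.comp_apply] at this
        rw [map_sub, this, sub_self]
      have h2 : f m - f' m ∈ torsionSub I n N := by
        intro a ha
        rw [smul_sub, ← map_smul, ← map_smul, hn a ha, map_zero, map_zero, sub_zero]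
      exact sub_eq_zero.1 (eq_zero_of_iota_eq_zero I hq n _ h2 h1)
    · intro g
      have hex : ∀ m : M, ∃ y : N, (∃ n, y ∈ torsionSub I n N) ∧ iota R S N y = g m := by
        intro m
        obtain ⟨n, hn⟩ := hM m
        have hz : ∀ a ∈ I ^ n, a • g m = 0 := fun a ha => by
          rw [← map_smul, hn a ha, map_zero]
        obtain ⟨y, hy, hyz⟩ := exists_of_torsion I hq hI n (g m) hz
        exact ⟨y, ⟨n, hy⟩, hyz⟩
      choose φ hφt hφ using hex
      have huniq : ∀ y y' : N, (∃ n, y ∈ torsionSub I n N) → (∃ n, y' ∈ torsionSub I n N) →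
          iota R S N y = iota R S N y' → y = y' := by
        rintro y y' ⟨n, hn⟩ ⟨n', hn'⟩ h
        have h1 : y - y' ∈ torsionSub I (max n n') N :=
          Submodule.sub_mem _ (torsionSub_mono I (le_max_left _ _) N hn)
            (torsionSub_mono I (le_max_right _ _) N hn')
        have h2 : iota R S N (y - y') = 0 := by rw [map_sub, h, sub_self]
        exact sub_eq_zero.1 (eq_zero_of_iota_eq_zero I hq _ _ h1 h2)
      let f : M →ₗ[R] N :=
        { toFun := φ
          map_add' := fun m m' => by
            apply huniq _ _ (hφt _)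
            · obtain ⟨n, hn⟩ := hφt m
              obtain ⟨n', hn'⟩ := hφt m'
              exact ⟨max n n', Submodule.add_mem _ (torsionSub_mono I (le_max_left _ _) N hn)
                (torsionSub_mono I (le_max_right _ _) N hn')⟩
            · rw [map_add, hφ, hφ, hφ, map_add]
          map_smul' := fun r m => by
            apply huniq _ _ (hφt _)
            · obtain ⟨n, hn⟩ := hφt m
              exact ⟨n, Submodule.smul_mem _ _ hn⟩
            · rw [RingHom.id_apply, map_smul, hφ, hφ, map_smul] }
      refine ⟨f, ?_⟩
      ext m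
      exact hφ m
  · have hbij := iota_bijective_of_powerTorsion I hq hN
    constructor
    · intro f f' hff
      ext m
      have := congrArg (fun h => h m) hff
      exact hbij.1 this
    · intro g
      let e := LinearEquiv.ofBijective (iota R S N) hbij
      refine ⟨e.symm.toLinearMap ∘ₗ g, ?_⟩
      ext m
      show iota R S N (e.symm (g m)) = g m
      exact e.apply_symm_apply (g m)

end Groth.Agent.H5PowTors
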